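import Mathlib.RingTheory.Etale.Basic
import Mathlib.RingTheory.RingHom.StandardSmooth
import Mathlib.RingTheory.Unramified.Finite
import Mathlib.Algebra.Algebra.Epi
import Mathlib.FieldTheory.Perfect
import Mathlib.RingTheory.AdjoinRoot
import Groth.Prelude.Def_W4c2gaugesfzipsQuiet
import Groth.Agent.SpFP87.Reduced

/-! Frobenius of an algebra étale over a polynomial ring over a perfect field. -/

set_option autoImplicit false

universe u

open TensorProduct MvPolynomial

namespace Groth.Agent.Quiet29

variable (p : ℕ) [hp : Fact p.Prime]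

include hp in
theorem pow_sub_of_cast_eq_zero {R : Type u} [CommRing R] (h : (p : R) = 0) (x y : R) :
    (x - y) ^ p = x ^ p - y ^ p := by
  rcases subsingleton_or_nontrivial R with hR | hR
  · exact Subsingleton.elim _ _
  · haveI : CharP R p := (CharP.charP_iff_prime_eq_zero hp.out).2 h
    exact sub_pow_char x y

include hp in
/-- A finite unramified extension containing all `p`-th powers in its image is surjective. -/
theorem surjective_of_unramified_pow_mem {T A : Type u} [CommRing T] [CommRing A] [Algebra T A]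
    [Module.Finite T A] [Algebra.FormallyUnramified T A] (h0 : (p : A) = 0)
    (hpow : ∀ a : A, a ^ p ∈ (algebraMap T A).range) : Function.Surjective (algebraMap T A) := by
  rw [← Algebra.isEpi_iff_surjective_algebraMap_of_finite, Algebra.isEpi_iff_forall_one_tmul_eq]
  obtain ⟨t, ht, ht1⟩ := (Algebra.FormallyUnramified.iff_exists_tensorProduct (R := T) (S := A)).1 ‹_›
  have h0' : (p : A ⊗[T] A) = 0 := by
    rw [← map_natCast (Algebra.TensorProduct.includeLeftRingHom : A →+* A ⊗[T] A), h0, map_zero]
  have hnil : ∀ s : A, IsNilpotent ((1 : A) ⊗ₜ[T] s - s ⊗ₜ[T] (1 : A)) := fun s => ⟨p, by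
    obtain ⟨b, hb⟩ := hpow s
    rw [pow_sub_of_cast_eq_zero p h0', Algebra.TensorProduct.tmul_pow, Algebra.TensorProduct.tmul_pow,
      one_pow, ← hb, Algebra.algebraMap_eq_smul_one, smul_tmul, sub_self]⟩
  have ht' : IsNilpotent (1 - t) := by
    have hmem : 1 - t ∈ KaehlerDifferential.ideal T A := by
      show Algebra.TensorProduct.lmul' T (1 - t) = 0
      rw [map_sub, map_one, ht1, sub_self]
    rw [← KaehlerDifferential.span_range_eq_ideal] at hmem
    refine mem_nilradical.1 ((Ideal.span_le.2 ?_) hmem)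
    rintro _ ⟨s, rfl⟩
    exact mem_nilradical.2 (hnil s)
  have hu : IsUnit t := by simpa using ht'.isUnit_one_sub
  exact fun a => sub_eq_zero.1 (hu.mul_left_eq_zero.1 (ht a))

theorem exists_lift {P P' A C : Type u} [CommRing P] [CommRing P'] [CommRing A] [CommRing C]
    [Algebra P P'] [Algebra P A] (g₁ : P' →+* C) (g₂ : A →+* C)
    (h : g₁.comp (algebraMap P P') = g₂.comp (algebraMap P A)) :
    ∃ f : P' ⊗[P] A →+* C, (∀ x, f (x ⊗ₜ[P] 1) = g₁ x) ∧ ∀ a, f (1 ⊗ₜ[P] a) = g₂ a := by
  letI : Algebra P C := (g₂.comp (algebraMap P A)).toAlgebra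
  let f₁ : P' →ₐ[P] C := AlgHom.mk g₁ fun q => RingHom.congr_fun h q
  let f₂ : A →ₐ[P] C := AlgHom.mk g₂ fun _ => rfl
  let f := Algebra.TensorProduct.lift f₁ f₂ fun _ _ => Commute.all _ _
  refine ⟨f.toRingHom, fun x => ?_, fun a => ?_⟩
  · show f (x ⊗ₜ[P] 1) = f₁ x
    rw [Algebra.TensorProduct.lift_tmul, map_one, mul_one]
  · show f (1 ⊗ₜ[P] a) = f₂ a
    rw [Algebra.TensorProduct.lift_tmul, map_one, one_mul]

variable {k : Type u} [Field k] [CharP k p] [PerfectRing k p]

/-- Frobenius of an algebra étale over a polynomial ring is a simultaneous extraction of roots. -/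
theorem universal_of_etale {n : ℕ} {A : Type u} [CommRing A] [CharP A p] [Algebra k A]
    [Algebra (MvPolynomial (Fin n) k) A] [IsScalarTower k (MvPolynomial (Fin n) k) A]
    [Algebra.Etale (MvPolynomial (Fin n) k) A] (C : Type u) [CommRing C] (γ : A →+* C) (c : Fin n → C)
    (hc : ∀ i, c i ^ p = γ (algebraMap (MvPolynomial (Fin n) k) A (X i))) :
    ∃! f : A →+* C, f.comp (frobenius A p) = γ ∧
      ∀ i, f (algebraMap (MvPolynomial (Fin n) k) A (X i)) = c i := by
  let P := MvPolynomial (Fin n) k
  let P' := MvPolynomial (ULift.{u} (Fin n)) k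
  let e : P ≃ₐ[k] P' := MvPolynomial.renameEquiv k Equiv.ulift.symm
  haveI : Nontrivial A := CharP.nontrivial_of_char_ne_one (R := A) hp.out.ne_one
  letI : Algebra P P' := ((frobenius P' p).comp e.toRingEquiv.toRingHom).toAlgebra
  letI : Algebra P' A := ((algebraMap P A).comp e.symm.toRingEquiv.toRingHom).toAlgebra
  have hPe : ∀ q : P, algebraMap P' A (e q) = algebraMap P A q := fun q => by
    show algebraMap P A (e.symm (e q)) = _
    rw [AlgEquiv.symm_apply_apply]
  haveI : IsScalarTower k P' A := IsScalarTower.of_algebraMap_eq fun a => by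
    show algebraMap k A a = algebraMap P A (e.symm (algebraMap k P' a))
    rw [AlgEquiv.commutes, ← IsScalarTower.algebraMap_apply]
  let T := P' ⊗[P] A
  haveI : _root_.IsReduced T := SpFP87.isReduced_of_smooth_ring P' T
  let ψ : A →+* T := (Algebra.TensorProduct.includeRight : A →ₐ[P] P' ⊗[P] A).toRingHom
  let ι : P' →+* T := Algebra.TensorProduct.includeLeftRingHom
  have hψP : ∀ q : P, ψ (algebraMap P A q) = ι (e q ^ p) := fun q => by
    show (1 : P') ⊗ₜ[P] algebraMap P A q = (e q ^ p) ⊗ₜ[P] (1 : A)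
    rw [Algebra.algebraMap_eq_smul_one, ← smul_tmul, Algebra.smul_def, mul_one]
    rfl
  obtain ⟨θ, hθι, hθψ⟩ := exists_lift (P := P) (algebraMap P' A) (frobenius A p) (RingHom.ext fun q => by
    show algebraMap P' A (e q ^ p) = algebraMap P A q ^ p
    rw [map_pow, hPe])
  replace hθι : ∀ x, θ (ι x) = algebraMap P' A x := hθι
  replace hθψ : ∀ a, θ (ψ a) = a ^ p := hθψ
  have hgen : ∀ {R : Type u} [CommRing R] (f g : T →+* R), (∀ x, f (ι x) = g (ι x)) →
      (∀ a, f (ψ a) = g (ψ a)) → f = g := by
    intro R _ f g h1 h2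
    refine RingHom.ext fun t => ?_
    induction t using TensorProduct.induction_on with
    | zero => simp
    | tmul x a =>
      rw [show x ⊗ₜ[P] a = ι x * ψ a from (by show _ = (x ⊗ₜ[P] (1 : A)) * ((1 : P') ⊗ₜ[P] a); rw [Algebra.TensorProduct.tmul_mul_tmul, mul_one, one_mul]), map_mul, map_mul, h1, h2]
    | add a b ha hb => rw [map_add, map_add, ha, hb]
  have hT0 : (p : T) = 0 := by
    rw [← map_natCast ψ, CharP.cast_eq_zero, map_zero]
  have hψθ : ∀ t, ψ (θ t) = t ^ p := by
    have h2 : ∀ x, ψ (algebraMap P' A x) = ι x ^ p := fun x => by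
      obtain ⟨q, rfl⟩ := e.surjective x
      rw [hPe, hψP, map_pow]
    intro t
    induction t using TensorProduct.induction_on with
    | zero => simp [zero_pow hp.out.ne_zero]
    | tmul x a =>
      rw [show x ⊗ₜ[P] a = ι x * ψ a from (by show _ = (x ⊗ₜ[P] (1 : A)) * ((1 : P') ⊗ₜ[P] a); rw [Algebra.TensorProduct.tmul_mul_tmul, mul_one, one_mul]), map_mul, map_mul, hθι, hθψ, h2, map_pow, mul_pow]
    | add a b ha hb =>
      rcases subsingleton_or_nontrivial T with hT | hT
      · exact Subsingleton.elim _ _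
      · haveI : CharP T p := (CharP.charP_iff_prime_eq_zero hp.out).2 hT0
        rw [map_add, map_add, ha, hb, add_pow_char]
  have hθinj : Function.Injective θ := by
    rw [injective_iff_map_eq_zero]
    intro t ht
    have := hψθ t
    rw [ht, map_zero] at this
    exact IsReduced.eq_zero t ⟨p, this.symm⟩
  have hθsurj : Function.Surjective θ := by
    letI : Algebra T A := θ.toAlgebra
    haveI : IsScalarTower P' T A := IsScalarTower.of_algebraMap_eq fun x => (hθι x).symm
    haveI : Algebra.FiniteType P A := inferInstance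
    letI : Algebra P' P := e.symm.toRingEquiv.toRingHom.toAlgebra
    haveI : IsScalarTower P' P A := IsScalarTower.of_algebraMap_eq fun _ => rfl
    haveI : Algebra.FormallyUnramified P' P := Algebra.FormallyUnramified.of_surjective
      (R := P') (A := P') (Algebra.ofId P' P) e.symm.surjective
    haveI : Algebra.FormallyUnramified P' A := Algebra.FormallyUnramified.comp P' P A
    haveI : Algebra.FormallyUnramified T A := Algebra.FormallyUnramified.of_restrictScalars P' T A
    haveI : Algebra.FiniteType P' P := Algebra.FiniteType.of_surjective (Algebra.ofId P' P) e.symm.surjective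
    haveI : Algebra.FiniteType P' A := Algebra.FiniteType.trans (S := P) inferInstance inferInstance
    haveI : Algebra.FiniteType T A := Algebra.FiniteType.of_restrictScalars_finiteType P' T A
    haveI : Algebra.IsIntegral T A := ⟨fun a => IsIntegral.of_pow hp.out.pos (by
      rw [← hθψ a]; exact isIntegral_algebraMap)⟩
    haveI : Module.Finite T A := Algebra.IsIntegral.finite
    exact surjective_of_unramified_pow_mem p (CharP.cast_eq_zero A p) fun a => ⟨ψ a, hθψ a⟩
  let E : T ≃+* A := RingEquiv.ofBijective θ ⟨hθinj, hθsurj⟩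
  let g₁ : P' →+* C := eval₂Hom ((γ.comp (algebraMap k A)).comp (frobeniusEquiv k p).symm.toRingHom)
    fun i => c i.down
  obtain ⟨f', hf₁, hf₂⟩ := exists_lift (P := P) g₁ γ (MvPolynomial.ringHom_ext (fun a => by
      show g₁ (e (MvPolynomial.C a) ^ p) = γ (algebraMap P A (MvPolynomial.C a))
      rw [show e (MvPolynomial.C a) = MvPolynomial.C a from e.commutes a, ← map_pow, eval₂Hom_C,
        show algebraMap P A (MvPolynomial.C a) = algebraMap k A a from (IsScalarTower.algebraMap_apply k P A a).symm]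
      show γ (algebraMap k A ((frobeniusEquiv k p).symm (a ^ p))) = _
      rw [← frobenius_def, ← frobeniusEquiv_apply, RingEquiv.symm_apply_apply])
    fun i => by
      show g₁ (e (X i) ^ p) = γ (algebraMap P A (X i))
      rw [show e (X i) = X ⟨i⟩ from rename_X _ _, map_pow, eval₂Hom_X', hc])
  replace hf₁ : ∀ x, f' (ι x) = g₁ x := hf₁
  replace hf₂ : ∀ a, f' (ψ a) = γ a := hf₂
  have hxi : ∀ i, θ (ι (X ⟨i⟩)) = algebraMap P A (X i) := fun i => by
    rw [hθι, ← hPe (X i)]
    congr 1
    exact (rename_X _ _).symm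
  have hsymm : ∀ t, E.symm (θ t) = t := E.symm_apply_apply
  refine ⟨f'.comp E.symm.toRingHom, ⟨RingHom.ext fun a => ?_, fun i => ?_⟩, fun f ⟨hf, hfx⟩ => ?_⟩
  · show f' (E.symm (a ^ p)) = γ a
    rw [← hθψ, hsymm, hf₂]
  · show f' (E.symm (algebraMap P A (X i))) = c i
    rw [← hxi, hsymm, hf₁]
    exact eval₂Hom_X' _ _ _
  · have key : f.comp θ = f' := by
      refine hgen _ _ (fun x => RingHom.congr_fun (f := (f.comp θ).comp ι) (g := f'.comp ι)
        (MvPolynomial.ringHom_ext (fun a => ?_) fun i => ?_) x) fun a => ?_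
      · show f (θ (ι (MvPolynomial.C a))) = f' (ι (MvPolynomial.C a))
        rw [hθι, hf₁, eval₂Hom_C, ← MvPolynomial.algebraMap_eq, ← IsScalarTower.algebraMap_apply k P' A]
        obtain ⟨b, rfl⟩ : ∃ b, b ^ p = a := ⟨(frobeniusEquiv k p).symm a, by
          rw [← frobenius_def, ← frobeniusEquiv_apply, RingEquiv.apply_symm_apply]⟩
        show f (algebraMap k A (b ^ p)) = γ (algebraMap k A ((frobeniusEquiv k p).symm (b ^ p)))
        rw [← frobenius_def (p := p) b, ← frobeniusEquiv_apply k p b, RingEquiv.symm_apply_apply, ← hf,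
          frobeniusEquiv_apply, frobenius_def, map_pow]
        rfl
      · show f (θ (ι (X i))) = f' (ι (X i))
        rw [hxi i.down, hf₁, eval₂Hom_X', hfx]
      · show f (θ (ψ a)) = f' (ψ a)
        rw [hθψ, hf₂, ← hf]
        rfl
    refine RingHom.ext fun a => ?_
    obtain ⟨t, rfl⟩ := hθsurj a
    rw [← RingHom.comp_apply f θ, key]
    show f' t = f' (E.symm (θ t))
    rw [hsymm]

end Groth.Agent.Quiet29
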