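import Groth.Agent.Quiet29.Frob
import Mathlib.RingTheory.Flat.Stability
import Mathlib.RingTheory.RingHom.Flat

/-! Simultaneous extractions of roots are towers. -/

set_option autoImplicit false

universe u

open Polynomial

namespace Groth.Agent.Quiet29

variable (p : ℕ)

/-- `B` is obtained from `A` by adjoining `p`-th roots `y` of the elements `x`. -/
def IsRootExt {n : ℕ} {A B : Type u} [CommRing A] [CommRing B] (φ : A →+* B) (x : Fin n → A)
    (y : Fin n → B) : Prop :=
  (∀ i, y i ^ p = φ (x i)) ∧ ∀ (C : Type u) [CommRing C] (γ : A →+* C) (c : Fin n → C),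
    (∀ i, c i ^ p = γ (x i)) → ∃! f : B →+* C, f.comp φ = γ ∧ ∀ i, f (y i) = c i

theorem isRootTower_of_isRootExt : ∀ (n : ℕ) (A B : Type u) [CommRing A] [CommRing B] [Algebra A B]
    (x : Fin n → A) (y : Fin n → B), IsRootExt p (algebraMap A B) x y →
      Quiet.IsRootTower p n A B := by
  intro n
  induction n with
  | zero =>
    intro A B _ _ _ x y ⟨_, h⟩
    obtain ⟨f, ⟨hf, -⟩, -⟩ := h A (RingHom.id A) Fin.elim0 fun i => i.elim0
    obtain ⟨g, -, hg⟩ := h B (algebraMap A B) Fin.elim0 fun i => i.elim0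
    have h1 : (algebraMap A B).comp f = RingHom.id B :=
      (hg _ ⟨by rw [RingHom.comp_assoc, hf, RingHom.comp_id], fun i => i.elim0⟩).trans
        (hg _ ⟨RingHom.id_comp _, fun i => i.elim0⟩).symm
    let g' : B →ₐ[A] A := AlgHom.mk f fun a => RingHom.congr_fun hf a
    exact ⟨AlgEquiv.ofAlgHom g' (Algebra.ofId A B) (AlgHom.ext fun a => RingHom.congr_fun hf a)
      (AlgHom.ext fun b => RingHom.congr_fun h1 b)⟩
  | succ n ih =>
    intro A B _ _ _ x y ⟨hy, h⟩
    let R := Quiet.RootRing p A (x 0)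
    let r : R →ₐ[A] B := AdjoinRoot.liftAlgHom _ (Algebra.ofId A B) (y 0) (by
      simp [hy 0, Algebra.ofId_apply])
    letI : Algebra R B := r.toRingHom.toAlgebra
    haveI : IsScalarTower A R B := IsScalarTower.of_algebraMap_eq fun a => (r.commutes a).symm
    refine ⟨x 0, inferInstance, inferInstance, ih R B (fun i => algebraMap A R (x i.succ))
      (fun i => y i.succ) ⟨fun i => by rw [hy, ← IsScalarTower.algebraMap_apply], fun C _ γ c hc => ?_⟩⟩
    have hroot : (γ (AdjoinRoot.root _)) ^ p = (γ.comp (algebraMap A R)) (x 0) := by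
      rw [← map_pow, RingHom.comp_apply]
      congr 1
      have := AdjoinRoot.eval₂_root (X ^ p - Polynomial.C (x 0) : A[X])
      rwa [eval₂_sub, eval₂_pow, eval₂_X, eval₂_C, sub_eq_zero] at this
    obtain ⟨f, ⟨hf, hfy⟩, huniq⟩ := h C (γ.comp (algebraMap A R)) (Fin.cons (γ (AdjoinRoot.root _)) c)
      (fun i => by cases i using Fin.cases with
        | zero => simpa using hroot
        | succ i => simpa using hc i)
    have hr : r (AdjoinRoot.root _) = y 0 := AdjoinRoot.liftAlgHom_root _ _ _ _
    refine ⟨f, ⟨AdjoinRoot.ringHom_ext (RingHom.ext fun a => ?_) ?_, fun i => by simpa using hfy i.succ⟩,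
      fun g ⟨hg, hgy⟩ => huniq g ⟨RingHom.ext fun a => ?_, fun i => ?_⟩⟩
    · show f (r (algebraMap A R a)) = γ (algebraMap A R a)
      rw [r.commutes]
      exact RingHom.congr_fun hf a
    · show f (r (AdjoinRoot.root _)) = γ (AdjoinRoot.root _)
      rw [hr, hfy]; rfl
    · show g (algebraMap A B a) = γ (algebraMap A R a)
      rw [IsScalarTower.algebraMap_apply A R B]
      exact RingHom.congr_fun hg _
    · cases i using Fin.cases with
      | zero =>
        rw [← hr]
        exact RingHom.congr_fun hg _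
      | succ i => simpa using hgy i

theorem flat_of_isRootTower [hp : Fact p.Prime] : ∀ (n : ℕ) (A B : Type u) [CommRing A] [CommRing B]
    [Algebra A B], Quiet.IsRootTower p n A B → Module.Flat A B := by
  intro n
  induction n with
  | zero =>
    intro A B _ _ _ ⟨e⟩
    exact Module.Flat.of_linearEquiv e.toLinearEquiv
  | succ n ih =>
    intro A B _ _ _ ⟨a, _, _, h⟩
    haveI := ih _ B h
    haveI : Module.Free A (Quiet.RootRing p A a) := (monic_X_pow_sub_C a hp.out.ne_zero).free_adjoinRoot
    exact Module.Flat.trans A (Quiet.RootRing p A a) B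

theorem IsRootExt.comp {n : ℕ} {A B B' : Type u} [CommRing A] [CommRing B] [CommRing B'] {φ : A →+* B}
    {x : Fin n → A} {y : Fin n → B} (h : IsRootExt p φ x y) (e : B ≃+* B') :
    IsRootExt p (e.toRingHom.comp φ) x (e ∘ y) := by
  refine ⟨fun i => by show e (y i) ^ p = e (φ (x i)); rw [← map_pow, h.1], fun C _ γ c hc => ?_⟩
  obtain ⟨f, ⟨hf, hfy⟩, huniq⟩ := h.2 C γ c hc
  refine ⟨f.comp e.symm.toRingHom, ⟨RingHom.ext fun a => ?_, fun i => ?_⟩, fun g ⟨hg, hgy⟩ => ?_⟩
  · show f (e.symm (e (φ a))) = γ a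
    rw [RingEquiv.symm_apply_apply]
    exact RingHom.congr_fun hf a
  · show f (e.symm (e (y i))) = c i
    rw [RingEquiv.symm_apply_apply, hfy]
  · rw [← huniq (g.comp e.toRingHom) ⟨hg, hgy⟩]
    exact RingHom.ext fun b => by simp

/-- Locally the Frobenius of a smooth algebra is a simultaneous extraction of roots. -/
theorem exists_isRootExt_frobenius [hp : Fact p.Prime] {k : Type u} [Field k] [CharP k p]
    [PerfectRing k p] (A : Type u) [CommRing A] [CharP A p] [Algebra k A] [Algebra.IsStandardSmooth k A] :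
    ∃ (n : ℕ) (x : Fin n → A), IsRootExt p (frobenius A p) x x := by
  obtain ⟨n, g, hg, het⟩ := RingHom.IsStandardSmooth.exists_etale_mvPolynomial
    (f := algebraMap k A) ((RingHom.isStandardSmooth_algebraMap).2 ‹_›)
  letI : Algebra (MvPolynomial (Fin n) k) A := g.toAlgebra
  haveI : IsScalarTower k (MvPolynomial (Fin n) k) A := IsScalarTower.of_algebraMap_eq' hg.symm
  haveI : Algebra.Etale (MvPolynomial (Fin n) k) A := het.toAlgebra
  exact ⟨n, fun i => algebraMap (MvPolynomial (Fin n) k) A (MvPolynomial.X i), fun i => rfl,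
    fun C _ γ c hc => universal_of_etale p C γ c hc⟩

end Groth.Agent.Quiet29
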